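import Groth.Agent.EtPushStalk.Counit
import Groth.Prelude.Def_EtShriek2
import Mathlib

/-!
Open immersions (more generally etale morphisms): restriction is left adjoint to direct image.
-/

universe u

open CategoryTheory CategoryTheory.Limits AlgebraicGeometry Opposite

set_option backward.isDefEq.respectTransparency false

namespace Groth.Agent.EtPushStalk

variable {U X : Scheme.{u}} (j : U ⟶ X) [Etale j] [EtShriek.JCont j]

/-- `compEtale j ⊣ bc j`. -/
noncomputable def compBcAdj : EtShriek.compEtale j ⊣ EtCoh.bc j :=
  MorphismProperty.Over.mapPullbackAdj EtCoh.etaleMP ⊤ j ‹_› trivial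

/-- Restriction along an etale morphism is left adjoint to direct image. -/
noncomputable def restrPushAdj : EtShriek.restrAlong j ⊣ EtCoh.push j :=
  ((compBcAdj j).op.whiskerLeft AddCommGrpCat.{u + 1}).restrictFullyFaithful
    (fullyFaithfulSheafToPresheaf _ _) (fullyFaithfulSheafToPresheaf _ _) (Iso.refl _) (Iso.refl _)

/-- Restriction along an etale morphism is the inverse image. -/
noncomputable def restrPullIso : EtShriek.restrAlong j ≅ EtCoh.pull j :=
  (restrPushAdj j).leftAdjointUniq (EtCoh.pullPushAdj j)

theorem isIso_unit_extZero [IsOpenImmersion j] (F : EtCoh.Ab U) :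
    IsIso ((EtShriek.extZeroAdj j).unit.app F) := by
  obtain ⟨_, _⟩ := push_fullyFaithful j (liftProp_of_openImmersion j)
  have : IsIso (restrPushAdj j).counit := inferInstance
  have : IsIso (EtShriek.extZeroAdj j).unit :=
    (Adjunction.Triple.isIso_unit_iff_isIso_counit ⟨EtShriek.extZeroAdj j, restrPushAdj j⟩).mpr this
  infer_instance

end Groth.Agent.EtPushStalk
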