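import Groth.Prelude.Def_EtShriek2
import Groth.Prelude.Def_EtBase
import Mathlib

/-!
Extension by zero commutes with inverse image.
-/

universe u

open CategoryTheory CategoryTheory.Limits AlgebraicGeometry Opposite

set_option backward.isDefEq.respectTransparency false

namespace Groth.Agent.EtPushStalk

variable {V' V Y X : Scheme.{u}} (j : V ⟶ X) [Etale j] (f : Y ⟶ X) (j' : V' ⟶ Y) [Etale j'] (f' : V' ⟶ V)
  (h : IsPullback j' f' f j)

/-- the square of small etale sites -/
noncomputable def bcCompIso : EtShriek.compEtale j ⋙ EtCoh.bc f ≅ EtCoh.bc f' ⋙ EtShriek.compEtale j' :=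
  NatIso.ofComponents
    (fun W => MorphismProperty.Over.isoMk
      ((IsPullback.of_hasPullback W.hom f').paste_vert h.flip).isoPullback.symm
      (((IsPullback.of_hasPullback W.hom f').paste_vert h.flip).isoPullback_inv_snd))
    (fun {W W'} g => by
      refine MorphismProperty.Over.Hom.ext ?_
      let P := (IsPullback.of_hasPullback W.hom f').paste_vert h.flip
      let P' := (IsPullback.of_hasPullback W'.hom f').paste_vert h.flip
      change ((EtCoh.bc f).map ((EtShriek.compEtale j).map g)).left ≫ P'.isoPullback.inv =
        P.isoPullback.inv ≫ ((EtCoh.bc f').map g).left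
      apply P'.hom_ext
      · rw [Category.assoc, P'.isoPullback_inv_fst, Category.assoc]
        erw [(EtCoh.isPullback_bc_map f ((EtShriek.compEtale j).map g)).w, (EtCoh.isPullback_bc_map f' g).w]
        rw [← Category.assoc]
        erw [P.isoPullback_inv_fst]
        rfl
      · rw [Category.assoc, P'.isoPullback_inv_snd, Category.assoc]
        have e1 : ((EtCoh.bc f).map ((EtShriek.compEtale j).map g)).left ≫ pullback.snd (W'.hom ≫ j) f =
            pullback.snd (W.hom ≫ j) f := MorphismProperty.Over.w ((EtCoh.bc f).map ((EtShriek.compEtale j).map g))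
        have e2 : ((EtCoh.bc f').map g).left ≫ pullback.snd W'.hom f' = pullback.snd W.hom f' :=
          MorphismProperty.Over.w ((EtCoh.bc f').map g)
        erw [e1, reassoc_of% e2, P.isoPullback_inv_snd])

variable [EtShriek.JCont j] [EtShriek.JCont j'] [EtCoh.BCCont f] [EtCoh.BCCont f']

/-- restriction commutes with direct image -/
noncomputable def restrPushIso :
    EtShriek.restrAlong j' ⋙ EtCoh.push f' ≅ EtCoh.push f ⋙ EtShriek.restrAlong j :=
  NatIso.ofComponents
    (fun F => (fullyFaithfulSheafToPresheaf _ _).preimageIso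
      (Functor.isoWhiskerRight (NatIso.op (bcCompIso j f j' f' h)) F.obj))
    (fun {F G} a => by
      refine Sheaf.hom_ext (NatTrans.ext (funext fun W => ?_))
      exact (a.hom.naturality _).symm)

/-- extension by zero commutes with inverse image -/
noncomputable def shriekPullIso : EtCoh.pull f' ⋙ EtShriek.extZero j' ≅ EtShriek.extZero j ⋙ EtCoh.pull f :=
  ((EtCoh.pullPushAdj f').comp (EtShriek.extZeroAdj j')).leftAdjointUniq
    (((EtShriek.extZeroAdj j).comp (EtCoh.pullPushAdj f)).ofNatIsoRight (restrPushIso j f j' f' h).symm)

end Groth.Agent.EtPushStalk
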