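import Groth.Agent.EtPushStalk.Counit
import Groth.Agent.EtStalk.Applications
import Groth.Prelude.Def_EtShriek2
import Mathlib

/-!
Germs of pulled back sections and their supports.
-/

universe u

open CategoryTheory CategoryTheory.Limits AlgebraicGeometry Opposite

set_option backward.isDefEq.respectTransparency false

namespace Groth.Agent.EtPushStalk

theorem germ_eq_zero_iff {S : Scheme.{u}} (F : EtCoh.Ab S) {Ω : Type u} [Field Ω] [IsSepClosed Ω]
    (ξ : Spec (CommRingCat.of Ω) ⟶ S) (V : S.Etale)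
    (v : Over.mk ξ ⟶ (Scheme.Etale.forget S).obj V) (t : EtCoh.sect F V) :
    (Scheme.pointSmallEtale ξ).toPresheafFiber V v F.obj t = 0 ↔
      v.left (default : Spec (CommRingCat.of Ω)) ∉ EtShriek.sectSupp F V t := by
  rw [Groth.Agent.EtSect.mem_iff]
  constructor
  · intro h
    obtain ⟨W, g, y, hy, h2⟩ := (GrothendieckTopology.Point.toPresheafFiber_eq_iff'
      (P := F.obj) (Scheme.pointSmallEtale ξ) V v t 0).mp (h.trans (map_zero _).symm)
    rw [map_zero] at h2
    let y' : Over.mk ξ ⟶ (Scheme.Etale.forget S).obj W := y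
    have hy2 : y'.left ≫ g.left = v.left := congrArg CommaMorphism.left hy
    exact ⟨W, g, ⟨y'.left (default : Spec (CommRingCat.of Ω)),
      congr($hy2 (default : Spec (CommRingCat.of Ω)))⟩, h2⟩
  · rintro ⟨W, g, ⟨w, hw⟩, h0⟩
    have := Groth.Agent.EtSect.etale_left g
    obtain ⟨l, hl⟩ := Scheme.pointSmallEtaleFiberObjToPreimage_surjective (S := V.left)
      v.left (s₀ := v.left (default : Spec (CommRingCat.of Ω))) rfl (Scheme.Etale.mk g.left) ⟨w, hw⟩
    let l' : Over.mk v.left ⟶ Over.mk g.left := l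
    let y : (Scheme.pointSmallEtale ξ).fiber.obj W :=
      (Over.homMk l'.left (by
        change l'.left ≫ W.hom = ξ
        rw [← MorphismProperty.Over.w g, ← Category.assoc]
        exact (congrArg (· ≫ V.hom) (Over.w l')).trans (Over.w v)) : Over.mk ξ ⟶ (Scheme.Etale.forget S).obj W)
    refine ((GrothendieckTopology.Point.toPresheafFiber_eq_iff' _ _ _ t 0).mpr
      ⟨W, g, y, ?_, by rw [h0, map_zero]⟩).trans (map_zero _)
    exact Over.OverMorphism.ext (Over.w l')

variable {T S : Scheme.{u}} (f : T ⟶ S)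

theorem stalkPullIso_hom_eq {Ω : Type u} [Field Ω] [IsSepClosed Ω] (ξ : Spec (CommRingCat.of Ω) ⟶ T)
    (F : EtCoh.Ab S) :
    (Groth.Agent.EtStalk.stalkPullIso f ξ).hom.app F =
      (EtCoh.stalk (ξ ≫ f)).map ((EtCoh.pullPushAdj f).unit.app F) ≫ stalkPushHom f ξ ((EtCoh.pull f).obj F) := by
  rw [← stalkPullIso_hom_counit]
  have h := (Groth.Agent.EtStalk.stalkPullIso f ξ).hom.naturality ((EtCoh.pullPushAdj f).unit.app F)
  refine Eq.trans ?_ ((congrArg (· ≫ (EtCoh.stalk ξ).map
    ((EtCoh.pullPushAdj f).counit.app ((EtCoh.pull f).obj F))) h.symm).trans (Category.assoc _ _ _))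
  rw [Category.assoc]
  simp only [Functor.id_obj, Functor.comp_map, ← Functor.map_comp]
  erw [(EtCoh.pullPushAdj f).left_triangle_components F, CategoryTheory.Functor.map_id]
  exact (Category.comp_id _).symm

theorem mem_sectSupp_unit_iff (F : EtCoh.Ab S) (V : S.Etale) (t : EtCoh.sect F V)
    (p : ((EtCoh.bc f).obj V).left) :
    p ∈ EtShriek.sectSupp ((EtCoh.pull f).obj F) ((EtCoh.bc f).obj V)
        (((EtCoh.pullPushAdj f).unit.app F).hom.app (op V) t) ↔
      pullback.fst V.hom f p ∈ EtShriek.sectSupp F V t := by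
  obtain ⟨Ω, _, _, η, -, hη⟩ := Groth.Agent.EtStalk.covers_all (X := ((EtCoh.bc f).obj V).left) p
  let ξ : Spec (CommRingCat.of Ω) ⟶ T := η ≫ pullback.snd V.hom f
  let v : Over.mk (ξ ≫ f) ⟶ (Scheme.Etale.forget S).obj V := Over.homMk (η ≫ pullback.fst V.hom f) (by
    change (η ≫ pullback.fst V.hom f) ≫ V.hom = (η ≫ pullback.snd V.hom f) ≫ f
    rw [Category.assoc, Category.assoc, pullback.condition])
  have hup : (up f ξ v).left = η := by
    change pullback.lift v.left ξ _ = η
    apply pullback.hom_ext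
    · rw [pullback.lift_fst]; rfl
    · rw [pullback.lift_snd]
  have key := stalkPullIso_hom_eq f ξ F
  let τ := ((EtCoh.pullPushAdj f).unit.app F).hom.app (op V) t
  have hgerm : (Groth.Agent.EtStalk.stalkPullIso f ξ).hom.app F
      ((Scheme.pointSmallEtale (ξ ≫ f)).toPresheafFiber V v F.obj t) =
      (Scheme.pointSmallEtale ξ).toPresheafFiber ((EtCoh.bc f).obj V) (up f ξ v) ((EtCoh.pull f).obj F).obj τ := by
    rw [key, ← stalkPushHom_germ ξ ((EtCoh.pull f).obj F) V v τ]
    refine congrArg (stalkPushHom f ξ ((EtCoh.pull f).obj F)) ?_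
    exact GrothendieckTopology.Point.toPresheafFiber_naturality_apply (Scheme.pointSmallEtale (ξ ≫ f))
      ((EtCoh.pullPushAdj f).unit.app F).hom V v t
  rw [← not_iff_not]
  have h1 := germ_eq_zero_iff ((EtCoh.pull f).obj F) ξ ((EtCoh.bc f).obj V) (up f ξ v) τ
  have h2 := germ_eq_zero_iff F (ξ ≫ f) V v t
  rw [hup] at h1
  have hp : (up f ξ v).left (default : Spec (CommRingCat.of Ω)) = p := by rw [hup]; exact hη
  rw [← hη]
  refine h1.symm.trans (Iff.trans ?_ h2)
  rw [← hgerm]
  exact map_eq_zero_iff _ ((ConcreteCategory.isIso_iff_bijective _).mp inferInstance).1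

theorem unit_eq_zero_iff (F : EtCoh.Ab S) (V : S.Etale) (t : EtCoh.sect F V) :
    ((EtCoh.pullPushAdj f).unit.app F).hom.app (op V) t = 0 ↔
      Set.range (pullback.fst V.hom f) ⊆ (EtShriek.sectSupp F V t)ᶜ := by
  let τ : EtCoh.sect ((EtCoh.pull f).obj F) ((EtCoh.bc f).obj V) :=
    ((EtCoh.pullPushAdj f).unit.app F).hom.app (op V) t
  have h := Groth.Agent.EtSect.map_eq_zero_iff ((EtCoh.pull f).obj F) τ (𝟙 _)
  simp only [op_id, CategoryTheory.Functor.map_id, ConcreteCategory.id_apply] at h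
  refine h.trans ⟨?_, ?_⟩
  · rintro hh _ ⟨p, rfl⟩
    exact fun hm => hh ⟨p, rfl⟩ ((mem_sectSupp_unit_iff f F V t p).mpr hm)
  · rintro hh _ ⟨p, rfl⟩
    exact fun hm => hh ⟨p, rfl⟩ ((mem_sectSupp_unit_iff f F V t p).mp hm)

end Groth.Agent.EtPushStalk
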