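import Groth.Agent.EtPushStalk.Basic
import Groth.Agent.EtStalk.Pullback

/-!
The counit of inverse and direct image is an isomorphism for immersions with the lifting property.
-/

universe u

open CategoryTheory CategoryTheory.Limits AlgebraicGeometry Opposite

set_option backward.isDefEq.respectTransparency false

namespace Groth.Agent.EtPushStalk

variable {Z X : Scheme.{u}} (i : Z ⟶ X) {Ω : Type u} [Field Ω] [IsSepClosed Ω]
  (ζ : Spec (CommRingCat.of Ω) ⟶ Z)

theorem stalkPullIso_hom_counit (G : EtCoh.Ab Z) :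
    (Groth.Agent.EtStalk.stalkPullIso i ζ).hom.app ((EtCoh.push i).obj G) ≫
      (EtCoh.stalk ζ).map ((EtCoh.pullPushAdj i).counit.app G) = stalkPushHom i ζ G := by
  let adj₂ := (Scheme.pointSmallEtale (ζ ≫ i)).skyscraperSheafAdjunction (A := AddCommGrpCat.{u + 1})
  let adjΦ := (Scheme.pointSmallEtale ζ).skyscraperSheafAdjunction (A := AddCommGrpCat.{u + 1})
  let adj₁ := (EtCoh.pullPushAdj i).comp adjΦ
  let β := (Groth.Agent.EtStalk.skyscraperPushIso (EtCoh.bc i) (Scheme.pointSmallEtale (ζ ≫ i))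
    (Scheme.pointSmallEtale ζ) (Groth.Agent.EtStalk.fiberIso i ζ) AddCommGrpCat.{u + 1}
    (J := X.smallEtaleTopology) (K := Z.smallEtaleTopology))
  apply (adj₂.homEquiv _ _).injective
  rw [Adjunction.homEquiv_naturality_right]
  have h1 : adj₂.homEquiv _ _ ((Groth.Agent.EtStalk.stalkPullIso i ζ).hom.app ((EtCoh.push i).obj G)) =
      adj₁.unit.app ((EtCoh.push i).obj G) ≫ β.hom.app _ := by
    rw [Adjunction.homEquiv_unit]
    exact (unit_conjugateEquiv_symm adj₁ adj₂ β.hom _).symm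
  rw [h1, Category.assoc, ← β.hom.naturality, ← Category.assoc]
  have h2 : adj₁.unit.app ((EtCoh.push i).obj G) ≫
      ((Scheme.pointSmallEtale ζ).skyscraperSheafFunctor ⋙ EtCoh.push i).map
        ((EtCoh.stalk ζ).map ((EtCoh.pullPushAdj i).counit.app G)) =
      (EtCoh.push i).map (adjΦ.unit.app G) := by
    simp only [adj₁, Adjunction.comp_unit_app, Functor.comp_map, Category.assoc, ← Functor.map_comp]
    erw [← adjΦ.unit.naturality ((EtCoh.pullPushAdj i).counit.app G)]
    rw [Functor.map_comp, ← Category.assoc]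
    erw [(EtCoh.pullPushAdj i).right_triangle_components, Category.id_comp]
    rfl
  rw [h2]
  refine Sheaf.hom_ext (NatTrans.ext (funext fun V => ?_))
  apply Pi.hom_ext
  intro v
  let v' : Over.mk (ζ ≫ i) ⟶ (Scheme.Etale.forget X).obj V.unop := v
  ext t
  have hL : ((adjΦ.unit.app G).hom.app (op ((EtCoh.bc i).obj V.unop)) ≫
      Pi.π (fun _ : (Scheme.pointSmallEtale ζ).fiber.obj ((EtCoh.bc i).obj V.unop) => (EtCoh.stalk ζ).obj G)
        (up i ζ v')) =
      (Scheme.pointSmallEtale ζ).toPresheafFiber ((EtCoh.bc i).obj V.unop) (up i ζ v') G.obj ≫ 𝟙 _ := by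
    rw [show adjΦ.unit.app G = adjΦ.homEquiv G _ (𝟙 _) from (adjΦ.homEquiv_id G).symm]
    erw [GrothendieckTopology.Point.skyscraperSheafAdjunction_homEquiv_apply_hom]
    exact GrothendieckTopology.Point.skyscraperPresheafHomEquiv_app_π _ _ _ _
  have hR : (adj₂.homEquiv ((EtCoh.push i).obj G) ((EtCoh.stalk ζ).obj G) (stalkPushHom i ζ G)).hom.app V ≫
      Pi.π (fun _ : (Scheme.pointSmallEtale (ζ ≫ i)).fiber.obj V.unop => (EtCoh.stalk ζ).obj G) v =
      (Scheme.pointSmallEtale (ζ ≫ i)).toPresheafFiber V.unop v ((EtCoh.push i).obj G).obj ≫ stalkPushHom i ζ G := by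
    erw [GrothendieckTopology.Point.skyscraperSheafAdjunction_homEquiv_apply_hom]
    exact GrothendieckTopology.Point.skyscraperPresheafHomEquiv_app_π _ _ _ _
  refine Eq.trans ?_ (ConcreteCategory.congr_hom hR t).symm
  refine Eq.trans ?_ (stalkPushHom_germ ζ G V.unop v' t).symm
  refine Eq.trans ?_ (ConcreteCategory.congr_hom (hL.trans (Category.comp_id _)) t)
  have hπ : (β.hom.app ((EtCoh.stalk ζ).obj G)).hom.app V ≫
      Pi.π (fun _ : (Scheme.pointSmallEtale (ζ ≫ i)).fiber.obj V.unop => (EtCoh.stalk ζ).obj G) v =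
      Pi.π (fun _ : (Scheme.pointSmallEtale ζ).fiber.obj ((EtCoh.bc i).obj V.unop) => (EtCoh.stalk ζ).obj G)
        (up i ζ v') := by
    change Pi.map' (f := fun _ : (Scheme.pointSmallEtale ζ).fiber.obj ((EtCoh.bc i).obj V.unop) => (EtCoh.stalk ζ).obj G)
        (g := fun _ : (Scheme.pointSmallEtale (ζ ≫ i)).fiber.obj V.unop => (EtCoh.stalk ζ).obj G)
        (fun x => ((Groth.Agent.EtStalk.fiberIso i ζ).inv.app V.unop) x)
        (fun _ => 𝟙 ((EtCoh.stalk ζ).obj G)) ≫
      Pi.π (fun _ : (Scheme.pointSmallEtale (ζ ≫ i)).fiber.obj V.unop => (EtCoh.stalk ζ).obj G) v = _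
    rw [Pi.map'_comp_π, Category.comp_id]
    congr 1
    refine Over.OverMorphism.ext ?_
    apply pullback.hom_ext <;> simp [Groth.Agent.EtStalk.fiberIso, up, Over.mapPullbackAdj, v']
  exact ConcreteCategory.congr_hom hπ _

theorem isIso_counit [IsImmersion i] (hL : LiftProp i) (G : EtCoh.Ab Z) :
    IsIso ((EtCoh.pullPushAdj i).counit.app G) := by
  refine (Groth.Agent.EtStalk.isIso_iff _).mpr fun Ω _ _ ζ => ?_
  have h1 : IsIso ((Groth.Agent.EtStalk.stalkPullIso i ζ).hom.app ((EtCoh.push i).obj G) ≫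
      (EtCoh.stalk ζ).map ((EtCoh.pullPushAdj i).counit.app G)) := by
    rw [stalkPullIso_hom_counit]; exact isIso_stalkPushHom ζ G hL
  exact IsIso.of_isIso_comp_left ((Groth.Agent.EtStalk.stalkPullIso i ζ).hom.app ((EtCoh.push i).obj G)) _

theorem push_fullyFaithful [IsImmersion i] (hL : LiftProp i) :
    (EtCoh.push i).Full ∧ (EtCoh.push i).Faithful := by
  have : ∀ G, IsIso ((EtCoh.pullPushAdj i).counit.app G) := isIso_counit i hL
  have : IsIso (EtCoh.pullPushAdj i).counit := NatIso.isIso_of_isIso_app _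
  let h := (EtCoh.pullPushAdj i).fullyFaithfulROfIsIsoCounit
  exact ⟨h.full, h.faithful⟩

end Groth.Agent.EtPushStalk
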