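import Groth.Agent.EtPushStalk.Lift
import Groth.Agent.EtStalk.Sheaf
import Groth.Agent.EtSect.Locus

/-!
Stalks of direct images along immersions at points of the source.
-/

universe u

open CategoryTheory CategoryTheory.Limits AlgebraicGeometry Opposite

set_option backward.isDefEq.respectTransparency false

namespace Groth.Agent.EtPushStalk

variable {Z X : Scheme.{u}} (i : Z ⟶ X) {Ω : Type u} [Field Ω] [IsSepClosed Ω]
  (ζ : Spec (CommRingCat.of Ω) ⟶ Z)

/-- the lift of a neighbourhood of `ζ ≫ i` to a point of the base change -/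
noncomputable def up {V : X.Etale} (v : Over.mk (ζ ≫ i) ⟶ (Scheme.Etale.forget X).obj V) :
    Over.mk ζ ⟶ (Scheme.Etale.forget Z).obj ((EtCoh.bc i).obj V) :=
  Over.homMk (pullback.lift v.left ζ (Over.w v)) (pullback.lift_snd _ _ _)

theorem up_map {V V' : X.Etale} (f : V ⟶ V') (v : Over.mk (ζ ≫ i) ⟶ (Scheme.Etale.forget X).obj V) :
    up i ζ v ≫ (Scheme.Etale.forget Z).map ((EtCoh.bc i).map f) =
      up i ζ (v ≫ (Scheme.Etale.forget X).map f) := by
  refine Over.OverMorphism.ext ?_
  change pullback.lift v.left ζ (Over.w v) ≫ ((EtCoh.bc i).map f).left = pullback.lift (v.left ≫ f.left) ζ _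
  apply pullback.hom_ext
  · erw [Category.assoc, (EtCoh.isPullback_bc_map i f).w]
    rw [← Category.assoc]
    erw [pullback.lift_fst, pullback.lift_fst]
  · have e1 : ((EtCoh.bc i).map f).left ≫ pullback.snd V'.hom i = pullback.snd V.hom i := by
      dsimp [EtCoh.bc]
      exact pullback.lift_snd _ _ _
    erw [Category.assoc, e1, pullback.lift_snd, pullback.lift_snd]

variable {i}

theorem exists_nhd (hL : LiftProp i) (W : Z.Etale) (w : Over.mk ζ ⟶ (Scheme.Etale.forget Z).obj W) :
    ∃ (V : X.Etale) (v : Over.mk (ζ ≫ i) ⟶ (Scheme.Etale.forget X).obj V)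
      (h : (EtCoh.bc i).obj V ⟶ W), up i ζ v ≫ (Scheme.Etale.forget Z).map h = w := by
  obtain ⟨V, h, -, p, hp⟩ := hL W (w.left (default : Spec (CommRingCat.of Ω)))
  have := Groth.Agent.EtSect.etale_left h
  obtain ⟨l, hl⟩ := Scheme.pointSmallEtaleFiberObjToPreimage_surjective (S := W.left)
    w.left (s₀ := w.left (default : Spec (CommRingCat.of Ω))) rfl (Scheme.Etale.mk h.left) ⟨p, hp⟩
  let l' : Over.mk w.left ⟶ Over.mk h.left := l
  have hsnd : l'.left ≫ pullback.snd V.hom i = ζ := by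
    have hw : h.left ≫ W.hom = pullback.snd V.hom i := MorphismProperty.Over.w h
    rw [← hw, ← Category.assoc]
    exact (congrArg (· ≫ W.hom) (Over.w l')).trans (Over.w w)
  let v : Over.mk (ζ ≫ i) ⟶ (Scheme.Etale.forget X).obj V :=
    Over.homMk (l'.left ≫ pullback.fst V.hom i) (by
      change (l'.left ≫ pullback.fst V.hom i) ≫ V.hom = ζ ≫ i
      rw [Category.assoc, pullback.condition, ← Category.assoc, hsnd])
  refine ⟨V, v, h, Over.OverMorphism.ext ?_⟩
  have hu : pullback.lift v.left ζ (Over.w v) = l'.left := by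
    apply pullback.hom_ext
    · rw [pullback.lift_fst]; rfl
    · rw [pullback.lift_snd]; exact hsnd.symm
  change pullback.lift v.left ζ (Over.w v) ≫ h.left = w.left
  rw [hu]
  exact Over.w l'

theorem exists_equalize [IsImmersion i] {V : X.Etale} {W : Z.Etale} (g₁ g₂ : (EtCoh.bc i).obj V ⟶ W)
    (v : Over.mk (ζ ≫ i) ⟶ (Scheme.Etale.forget X).obj V)
    (hg : up i ζ v ≫ (Scheme.Etale.forget Z).map g₁ = up i ζ v ≫ (Scheme.Etale.forget Z).map g₂) :
    ∃ (V' : X.Etale) (a : V' ⟶ V) (v' : Over.mk (ζ ≫ i) ⟶ (Scheme.Etale.forget X).obj V'),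
      v' ≫ (Scheme.Etale.forget X).map a = v ∧ (EtCoh.bc i).map a ≫ g₁ = (EtCoh.bc i).map a ≫ g₂ := by
  let P : Scheme.{u} := ((EtCoh.bc i).obj V).left
  have := W.prop
  have hw₁ : g₁.left ≫ W.hom = pullback.snd V.hom i := MorphismProperty.Over.w g₁
  have hw₂ : g₂.left ≫ W.hom = pullback.snd V.hom i := MorphismProperty.Over.w g₂
  let d : P ⟶ pullback W.hom W.hom := pullback.lift g₁.left g₂.left (hw₁.trans hw₂.symm)
  have : IsOpenImmersion (pullback.diagonal W.hom) := inferInstance
  let E : P.Opens := d ⁻¹ᵁ (pullback.diagonal W.hom).opensRange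
  let p : P := (up i ζ v).left (default : Spec (CommRingCat.of Ω))
  have hpE : p ∈ E := by
    refine ⟨((up i ζ v).left ≫ g₁.left) (default : Spec (CommRingCat.of Ω)), ?_⟩
    have : (up i ζ v).left ≫ d = ((up i ζ v).left ≫ g₁.left) ≫ pullback.diagonal W.hom := by
      apply pullback.hom_ext
      · simp only [Category.assoc, d, pullback.lift_fst, pullback.diagonal_fst, Category.comp_id]
      · simp only [Category.assoc, d, pullback.lift_snd, pullback.diagonal_snd, Category.comp_id]
        exact (congrArg CommaMorphism.left hg).symm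
    exact congr($this.symm (default : Spec (CommRingCat.of Ω)))
  let f : P ⟶ V.left := pullback.fst V.hom i
  obtain ⟨O, hO, hOE⟩ := (f.isEmbedding.isInducing.isOpen_iff).mp E.2
  let O' : V.left.Opens := ⟨O, hO⟩
  have := V.prop
  let V' : X.Etale := Scheme.Etale.mk (O'.ι ≫ V.hom)
  let a : V' ⟶ V := MorphismProperty.Over.homMk O'.ι rfl
  have hr : Set.range v.left ⊆ Set.range O'.ι := by
    rintro _ ⟨z, rfl⟩
    rw [Scheme.Opens.range_ι, Subsingleton.elim (α := Spec (CommRingCat.of Ω)) z (default : Spec (CommRingCat.of Ω))]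
    have h1 : (default : Spec (CommRingCat.of Ω)) ∈ (up i ζ v).left ⁻¹ᵁ (f ⁻¹ᵁ O') := by
      show p ∈ f ⁻¹' O
      rw [hOE]; exact hpE
    have h2 : (up i ζ v).left ≫ f = v.left := pullback.lift_fst _ _ _
    rw [← h2]
    exact h1
  let v' : Over.mk (ζ ≫ i) ⟶ (Scheme.Etale.forget X).obj V' :=
    Over.homMk (IsOpenImmersion.lift O'.ι v.left hr) (by
      change IsOpenImmersion.lift O'.ι v.left hr ≫ O'.ι ≫ V.hom = ζ ≫ i
      rw [IsOpenImmersion.lift_fac_assoc]
      exact Over.w v)
  refine ⟨V', a, v', Over.OverMorphism.ext (IsOpenImmersion.lift_fac _ _ _), MorphismProperty.Over.Hom.ext ?_⟩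
  let m : ((EtCoh.bc i).obj V').left ⟶ P := ((EtCoh.bc i).map a).left
  have hm : Set.range m ⊆ E := by
    rintro _ ⟨z, rfl⟩
    show m z ∈ (E : Set P)
    rw [show (E : Set P) = f ⁻¹' O from hOE.symm]
    change (m ≫ f) z ∈ O
    rw [show m ≫ f = pullback.fst V'.hom i ≫ O'.ι from (EtCoh.isPullback_bc_map i a).w]
    exact (pullback.fst V'.hom i z).2
  have hr' : Set.range (m ≫ d) ⊆ Set.range (pullback.diagonal W.hom) := by
    rintro _ ⟨z, rfl⟩
    exact hm ⟨z, rfl⟩
  have key := IsOpenImmersion.lift_fac (pullback.diagonal W.hom) (m ≫ d) hr'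
  have h1 := congrArg (· ≫ pullback.fst W.hom W.hom) key
  have h2 := congrArg (· ≫ pullback.snd W.hom W.hom) key
  simp only [Category.assoc, d, pullback.lift_fst, pullback.lift_snd, pullback.diagonal_fst,
    pullback.diagonal_snd, Category.comp_id] at h1 h2
  exact h1.symm.trans h2

variable (G : EtCoh.Ab Z)

variable (i) in
/-- the canonical map from the stalk of the direct image -/
noncomputable def stalkPushHom : (EtCoh.stalk (ζ ≫ i)).obj ((EtCoh.push i).obj G) ⟶ (EtCoh.stalk ζ).obj G :=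
  (Scheme.pointSmallEtale (ζ ≫ i)).presheafFiberDesc
    (fun V v => (Scheme.pointSmallEtale ζ).toPresheafFiber ((EtCoh.bc i).obj V) (up i ζ v) G.obj)
    (fun {V V'} f v => by
      have h := GrothendieckTopology.Point.toPresheafFiber_w (Scheme.pointSmallEtale ζ)
        ((EtCoh.bc i).map f) (up i ζ v) G.obj
      exact h.trans (by congr 1; exact up_map i ζ f v))

theorem stalkPushHom_germ (V : X.Etale) (v : Over.mk (ζ ≫ i) ⟶ (Scheme.Etale.forget X).obj V)
    (t : EtCoh.sect ((EtCoh.push i).obj G) V) :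
    stalkPushHom i ζ G ((Scheme.pointSmallEtale (ζ ≫ i)).toPresheafFiber V v ((EtCoh.push i).obj G).obj t) =
      (Scheme.pointSmallEtale ζ).toPresheafFiber ((EtCoh.bc i).obj V) (up i ζ v) G.obj t :=
  ConcreteCategory.congr_hom (GrothendieckTopology.Point.toPresheafFiber_presheafFiberDesc (Φ := Scheme.pointSmallEtale (ζ ≫ i)) (φ := _) (hφ := _) V v) t

theorem bijective_stalkPushHom [IsImmersion i] (hL : LiftProp i) :
    Function.Bijective (stalkPushHom i ζ G) := by
  constructor
  · rw [injective_iff_map_eq_zero]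
    intro z hz
    obtain ⟨V, v, t, rfl⟩ := (Scheme.pointSmallEtale (ζ ≫ i)).toPresheafFiber_jointly_surjective (P := ((EtCoh.push i).obj G).obj) z
    rw [stalkPushHom_germ] at hz
    obtain ⟨Y, g, y, hy, ht⟩ := (GrothendieckTopology.Point.toPresheafFiber_eq_iff' (P := G.obj) (Scheme.pointSmallEtale ζ)
      ((EtCoh.bc i).obj V) (up i ζ v) t 0).mp (hz.trans (map_zero _).symm)
    rw [map_zero] at ht
    obtain ⟨V₁, v₁, g₁, hv₁⟩ := exists_nhd ζ hL Y y
    obtain ⟨T, a, b, -⟩ := IsCofilteredOrEmpty.cone_objs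
      (Functor.elementsMk (Scheme.pointSmallEtale (ζ ≫ i)).fiber V v)
      (Functor.elementsMk (Scheme.pointSmallEtale (ζ ≫ i)).fiber V₁ v₁)
    let v₂ : Over.mk (ζ ≫ i) ⟶ (Scheme.Etale.forget X).obj T.1 := T.2
    have ha : v₂ ≫ (Scheme.Etale.forget X).map a.1 = v := a.2
    have hb : v₂ ≫ (Scheme.Etale.forget X).map b.1 = v₁ := b.2
    obtain ⟨V₃, c, v₃, hc, heq⟩ := exists_equalize ζ
      ((EtCoh.bc i).map a.1) ((EtCoh.bc i).map b.1 ≫ g₁ ≫ g) v₂ (by
        rw [Functor.map_comp, Functor.map_comp, ← Category.assoc, up_map, up_map, hb, ha, ← Category.assoc, hv₁]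
        exact hy.symm)
    refine ((GrothendieckTopology.Point.toPresheafFiber_eq_iff' _ _ _ t 0).mpr
      ⟨V₃, c ≫ a.1, v₃, ?_, ?_⟩).trans (map_zero _)
    · change v₃ ≫ (Scheme.Etale.forget X).map (c ≫ a.1) = v
      rw [Functor.map_comp, ← Category.assoc, hc, ha]
    · rw [map_zero]
      change G.obj.map ((EtCoh.bc i).map (c ≫ a.1)).op t = 0
      rw [Functor.map_comp, heq]
      simp only [op_comp, Functor.map_comp, ConcreteCategory.comp_apply, ht, map_zero]
  · intro z
    obtain ⟨W, w, t, rfl⟩ := (Scheme.pointSmallEtale ζ).toPresheafFiber_jointly_surjective (P := G.obj) z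
    obtain ⟨V, v, g, hg⟩ := exists_nhd ζ hL W w
    refine ⟨(Scheme.pointSmallEtale (ζ ≫ i)).toPresheafFiber V v ((EtCoh.push i).obj G).obj (G.obj.map g.op t), ?_⟩
    rw [stalkPushHom_germ]
    exact (GrothendieckTopology.Point.toPresheafFiber_w_apply (Scheme.pointSmallEtale ζ) g (up i ζ v) G.obj t).trans (by congr 3)

theorem isIso_stalkPushHom [IsImmersion i] (hL : LiftProp i) : IsIso (stalkPushHom i ζ G) :=
  (ConcreteCategory.isIso_iff_bijective _).mpr (bijective_stalkPushHom ζ G hL)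

theorem stalkPushHom_natural {G' : EtCoh.Ab Z} (m : G ⟶ G') :
    (EtCoh.stalk (ζ ≫ i)).map ((EtCoh.push i).map m) ≫ stalkPushHom i ζ G' =
      stalkPushHom i ζ G ≫ (EtCoh.stalk ζ).map m := by
  refine GrothendieckTopology.Point.presheafFiber_hom_ext _ fun V v => ?_
  ext t
  change stalkPushHom i ζ G' ((Scheme.pointSmallEtale (ζ ≫ i)).presheafFiber.map ((EtCoh.push i).map m).hom
      ((Scheme.pointSmallEtale (ζ ≫ i)).toPresheafFiber V v ((EtCoh.push i).obj G).obj t)) =
    (Scheme.pointSmallEtale ζ).presheafFiber.map m.hom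
      (stalkPushHom i ζ G ((Scheme.pointSmallEtale (ζ ≫ i)).toPresheafFiber V v ((EtCoh.push i).obj G).obj t))
  rw [GrothendieckTopology.Point.toPresheafFiber_naturality_apply, stalkPushHom_germ, stalkPushHom_germ,
    GrothendieckTopology.Point.toPresheafFiber_naturality_apply]
  rfl

/-- The stalk of a direct image along an immersion at a point of the source. -/
noncomputable def stalkPushIso [IsImmersion i] (hL : LiftProp i) :
    EtCoh.push i ⋙ EtCoh.stalk (ζ ≫ i) ≅ EtCoh.stalk ζ :=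
  NatIso.ofComponents (fun G => haveI := isIso_stalkPushHom ζ G hL; asIso (stalkPushHom i ζ G))
    (fun m => stalkPushHom_natural ζ _ m)

end Groth.Agent.EtPushStalk
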