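import Groth.Prelude.Def_EtBase
import Groth.Agent.InfLift.EtaleExt
import Mathlib

/-!
Etale neighbourhoods lift along closed and open immersions.
-/

universe u

open CategoryTheory CategoryTheory.Limits AlgebraicGeometry TensorProduct

set_option backward.isDefEq.respectTransparency false

namespace Groth.Agent.EtPushStalk

/-- Every point of an etale `Z`-scheme has a neighbourhood pulled back from `X`. -/
def LiftProp {Z X : Scheme.{u}} (i : Z ⟶ X) : Prop :=
  ∀ (W : Z.Etale) (w : W.left), ∃ (V : X.Etale) (h : (EtCoh.bc i).obj V ⟶ W),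
    IsOpenImmersion h.left ∧ w ∈ Set.range h.left

theorem liftProp_of_openImmersion {Z X : Scheme.{u}} (i : Z ⟶ X) [IsOpenImmersion i] : LiftProp i := by
  intro W w
  have := W.prop
  let f : W.left ⟶ Z := W.hom
  let V : X.Etale := Scheme.Etale.mk (f ≫ i)
  have hb : IsPullback (𝟙 W.left) f (f ≫ i) i :=
    ⟨⟨by simp⟩, ⟨PullbackCone.IsLimit.mk _ (fun s => s.fst) (fun s => by simp)
      (fun s => by rw [← cancel_mono i, Category.assoc]; exact s.condition)
      (fun s m h1 _ => by simpa using h1)⟩⟩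
  refine ⟨V, MorphismProperty.Over.homMk hb.isoPullback.inv ?_, ?_, ?_⟩
  · exact hb.isoPullback_inv_snd
  · exact inferInstanceAs (IsOpenImmersion hb.isoPullback.inv)
  · exact ⟨hb.isoPullback.hom w, congr($(hb.isoPullback.hom_inv_id) w)⟩

theorem liftProp_of_closedImmersion {Z X : Scheme.{u}} (i : Z ⟶ X) [IsClosedImmersion i] : LiftProp i := by
  intro W w
  have hWet := W.prop
  let q : W.left ⟶ Z := W.hom
  obtain ⟨U, hU, hxU, -⟩ := exists_isAffineOpen_mem_and_subset (X := X) (x := i (q w)) (U := ⊤) trivial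
  have hUZ : IsAffineOpen (i ⁻¹ᵁ U) := hU.preimage i
  obtain ⟨W₁, hW₁, hwW₁, hle⟩ := exists_isAffineOpen_mem_and_subset (X := W.left) (x := w)
    (U := q ⁻¹ᵁ (i ⁻¹ᵁ U)) hxU
  let φ : Γ(X, U) ⟶ Γ(Z, i ⁻¹ᵁ U) := i.app U
  let ψ : Γ(Z, i ⁻¹ᵁ U) ⟶ Γ(W.left, W₁) := q.appLE (i ⁻¹ᵁ U) W₁ hle
  algebraize [φ.hom, ψ.hom]
  have hφ : Function.Surjective (algebraMap Γ(X, U) Γ(Z, i ⁻¹ᵁ U)) := i.app_surjective U hU
  have : Algebra.Etale Γ(Z, i ⁻¹ᵁ U) Γ(W.left, W₁) :=
    (RingHom.etale_algebraMap).mp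
      (HasRingHomProperty.appLE (P := @AlgebraicGeometry.Etale) q ‹_› ⟨_, hUZ⟩ ⟨_, hW₁⟩ hle)
  obtain ⟨p, hp⟩ : ∃ p : Spec Γ(W.left, W₁), hW₁.fromSpec p = w := by
    have : w ∈ Set.range hW₁.fromSpec := by rw [hW₁.range_fromSpec]; exact hwW₁
    exact this
  obtain ⟨s, hs, hstd⟩ := Algebra.IsEtaleAt.exists_isStandardEtale (R := Γ(Z, i ⁻¹ᵁ U)) p.asIdeal
  obtain ⟨C, _, _, hC, ⟨e⟩⟩ := Groth.Agent.InfLift.exists_standardEtale_lift
    (A := Γ(X, U)) (A₀ := Γ(Z, i ⁻¹ᵁ U)) (C₀ := Localization.Away s) hφ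
  let v : Spec (CommRingCat.of C) ⟶ X :=
    Spec.map (CommRingCat.ofHom (algebraMap Γ(X, U) C)) ≫ hU.fromSpec
  have hv : Etale v := by
    have : Etale (Spec.map (CommRingCat.ofHom (algebraMap Γ(X, U) C))) :=
      (HasRingHomProperty.Spec_iff (P := @AlgebraicGeometry.Etale)).mpr (RingHom.etale_algebraMap.mpr hC)
    infer_instance
  let P := Spec (CommRingCat.of (Γ(Z, i ⁻¹ᵁ U) ⊗[Γ(X, U)] C))
  have h1 : IsPullback (Spec.map (CommRingCat.ofHom Algebra.TensorProduct.includeRight.toRingHom) : P ⟶ Spec (CommRingCat.of C))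
      (Spec.map (CommRingCat.ofHom Algebra.TensorProduct.includeLeftRingHom) : P ⟶ Spec Γ(Z, i ⁻¹ᵁ U))
      (Spec.map (CommRingCat.ofHom (algebraMap Γ(X, U) C))) (Spec.map φ) :=
    (isPullback_SpecMap_of_isPushout _ _ _ _
      (CommRingCat.isPushout_tensorProduct Γ(X, U) Γ(Z, i ⁻¹ᵁ U) C).flip)
  have h2 : IsPullback (Spec.map φ) hUZ.fromSpec hU.fromSpec i := by
    refine IsOpenImmersion.isPullback (Spec.map φ) hUZ.fromSpec hU.fromSpec i ?_ ?_
    · rw [← IsAffineOpen.SpecMap_appLE_fromSpec i hU hUZ le_rfl]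
      simp [φ, Scheme.Hom.appLE]
    · rw [hU.opensRange_fromSpec, hUZ.opensRange_fromSpec]
  have h3 : IsPullback (Spec.map (CommRingCat.ofHom Algebra.TensorProduct.includeRight.toRingHom) : P ⟶ Spec (CommRingCat.of C))
      ((Spec.map (CommRingCat.ofHom Algebra.TensorProduct.includeLeftRingHom) : P ⟶ Spec Γ(Z, i ⁻¹ᵁ U)) ≫ hUZ.fromSpec)
      v i := h1.paste_vert h2
  let j : P ⟶ W.left := Spec.map (CommRingCat.ofHom e.symm.toAlgHom.toRingHom) ≫
    Spec.map (CommRingCat.ofHom (algebraMap Γ(W.left, W₁) (Localization.Away s))) ≫ hW₁.fromSpec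
  have : IsIso (CommRingCat.ofHom e.symm.toAlgHom.toRingHom) :=
    e.symm.toRingEquiv.toCommRingCatIso.isIso_hom
  have : IsOpenImmersion (Spec.map (CommRingCat.ofHom (algebraMap Γ(W.left, W₁) (Localization.Away s)))) :=
    IsOpenImmersion.of_isLocalization s
  have hj : j ≫ q = Spec.map (CommRingCat.ofHom Algebra.TensorProduct.includeLeftRingHom) ≫ hUZ.fromSpec := by
    have hfac : CommRingCat.ofHom Algebra.TensorProduct.includeLeftRingHom =
        ψ ≫ CommRingCat.ofHom (algebraMap Γ(W.left, W₁) (Localization.Away s)) ≫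
          CommRingCat.ofHom e.symm.toAlgHom.toRingHom := by
      ext b
      change b ⊗ₜ (1 : C) = e.symm (algebraMap Γ(W.left, W₁) (Localization.Away s)
        (algebraMap Γ(Z, i ⁻¹ᵁ U) Γ(W.left, W₁) b))
      rw [← IsScalarTower.algebraMap_apply, AlgEquiv.commutes]
      rfl
    rw [hfac, Spec.map_comp, Spec.map_comp]
    simp only [j, Category.assoc, ψ]
    erw [IsAffineOpen.SpecMap_appLE_fromSpec q hUZ hW₁ hle]
  refine ⟨Scheme.Etale.mk v, MorphismProperty.Over.homMk (h3.isoPullback.inv ≫ j) ?_, ?_, ?_⟩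
  · rw [Category.assoc]
    exact (congrArg (h3.isoPullback.inv ≫ ·) hj).trans h3.isoPullback_inv_snd
  · exact inferInstanceAs (IsOpenImmersion (h3.isoPullback.inv ≫ j))
  · obtain ⟨p', hp'⟩ : p ∈ Set.range (PrimeSpectrum.comap (algebraMap Γ(W.left, W₁) (Localization.Away s))) := by
      rw [PrimeSpectrum.localization_away_comap_range (Localization.Away s) s]; exact hs
    refine ⟨h3.isoPullback.hom (PrimeSpectrum.comap e.toAlgHom.toRingHom p'), ?_⟩
    change (h3.isoPullback.inv ≫ j) (h3.isoPullback.hom _) = w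
    rw [← Scheme.Hom.comp_apply, Iso.hom_inv_id_assoc]
    change hW₁.fromSpec _ = w
    rw [← hp]
    congr 1
    rw [← hp']
    change PrimeSpectrum.comap _ (PrimeSpectrum.comap _ (PrimeSpectrum.comap _ p')) = _
    congr 1
    refine PrimeSpectrum.ext (Ideal.ext fun x => ?_)
    change e (e.symm x) ∈ p'.asIdeal ↔ x ∈ p'.asIdeal
    rw [e.apply_symm_apply]

end Groth.Agent.EtPushStalk
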