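import Groth.Agent.EtPushStalk.Counit
import Groth.Agent.EtStalk.Applications
import Groth.Agent.EtInvariance.Site
import Groth.Prelude.Def_PBC
import Mathlib

/-!
Direct image along integral universally injective morphisms.
-/

universe u

open CategoryTheory CategoryTheory.Limits AlgebraicGeometry Opposite

set_option backward.isDefEq.respectTransparency false

namespace Groth.Agent.EtPushStalk

theorem exists_lift_point {Z X : Scheme.{u}} (i : Z ⟶ X) [IsClosedImmersion i] {Ω : Type u} [Field Ω]
    (ξ : Spec (CommRingCat.of Ω) ⟶ X) (h : ξ (default : Spec (CommRingCat.of Ω)) ∈ Set.range i) :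
    ∃ ζ : Spec (CommRingCat.of Ω) ⟶ Z, ζ ≫ i = ξ := by
  obtain ⟨z, hz⟩ := h
  obtain ⟨p, -, -⟩ := Scheme.Pullback.exists_preimage_pullback (f := i) (g := ξ) z (default : Spec (CommRingCat.of Ω)) hz
  have : Surjective (pullback.snd i ξ) := ⟨fun q => ⟨p, Subsingleton.elim (α := Spec (CommRingCat.of Ω)) _ _⟩⟩
  have : IsIso (pullback.snd i ξ) := isIso_of_isClosedImmersion_of_surjective _
  exact ⟨inv (pullback.snd i ξ) ≫ pullback.fst i ξ, by
    rw [Category.assoc, pullback.condition, IsIso.inv_hom_id_assoc]⟩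

theorem disjoint_of_not_mem {Z X : Scheme.{u}} (i : Z ⟶ X) {Ω : Type u} [Field Ω]
    (ξ : Spec (CommRingCat.of Ω) ⟶ X) (h : ξ (default : Spec (CommRingCat.of Ω)) ∉ Set.range i) :
    Disjoint (Set.range ξ.base) (Set.range i.base) := by
  rw [Set.disjoint_left]
  rintro _ ⟨z, rfl⟩
  rw [Subsingleton.elim (α := Spec (CommRingCat.of Ω)) z (default : Spec (CommRingCat.of Ω))]
  exact h

theorem essImage_closedImmersion {Z X : Scheme.{u}} (i : Z ⟶ X) [IsClosedImmersion i] (F : EtCoh.Ab X) :
    (EtCoh.push i).essImage F ↔ ∀ (Ω : Type u) [Field Ω] [IsSepClosed Ω] (ξ : Spec (CommRingCat.of Ω) ⟶ X),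
      ξ (default : Spec (CommRingCat.of Ω)) ∉ Set.range i → IsZero ((EtCoh.stalk ξ).obj F) := by
  constructor
  · rintro ⟨G, ⟨e⟩⟩ Ω _ _ ξ h
    exact (Groth.Agent.EtStalk.isZero_stalk_push i G ξ (disjoint_of_not_mem i ξ h)).of_iso
      ((EtCoh.stalk ξ).mapIso e.symm)
  · intro hF
    suffices IsIso ((EtCoh.pullPushAdj i).unit.app F) from
      ⟨_, ⟨(asIso ((EtCoh.pullPushAdj i).unit.app F)).symm⟩⟩
    refine (Groth.Agent.EtStalk.isIso_iff _).mpr fun Ω _ _ ξ => ?_
    by_cases h : ξ (default : Spec (CommRingCat.of Ω)) ∈ Set.range i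
    · obtain ⟨ζ, rfl⟩ := exists_lift_point i ξ h
      have hc := isIso_counit i (liftProp_of_closedImmersion i) ((EtCoh.pull i).obj F)
      have h1 : IsIso ((EtCoh.pull i).map ((EtCoh.pullPushAdj i).unit.app F)) := by
        have h2 := (EtCoh.pullPushAdj i).left_triangle_components F
        have : IsIso ((EtCoh.pull i).map ((EtCoh.pullPushAdj i).unit.app F) ≫
            (EtCoh.pullPushAdj i).counit.app ((EtCoh.pull i).obj F)) := by rw [h2]; exact IsIso.id _
        exact IsIso.of_isIso_comp_right _ ((EtCoh.pullPushAdj i).counit.app ((EtCoh.pull i).obj F))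
      exact (NatIso.isIso_map_iff (Groth.Agent.EtStalk.stalkPullIso i ζ) _).mpr
        (inferInstanceAs (IsIso ((EtCoh.stalk ζ).map ((EtCoh.pull i).map ((EtCoh.pullPushAdj i).unit.app F)))))
    · exact (hF Ω ξ h).isIso (Groth.Agent.EtStalk.isZero_stalk_push i _ ξ (disjoint_of_not_mem i ξ h)) _

theorem push_epi {Z X : Scheme.{u}} (i : Z ⟶ X) [IsClosedImmersion i] :
    (EtCoh.push i).PreservesEpimorphisms := by
  refine ⟨fun {F G} a ha => (Groth.Agent.EtStalk.epi_iff _).mpr fun Ω _ _ ξ => ?_⟩
  by_cases h : ξ (default : Spec (CommRingCat.of Ω)) ∈ Set.range i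
  · obtain ⟨ζ, rfl⟩ := exists_lift_point i ξ h
    have h1 : Epi ((EtCoh.stalk ζ).map a) :=
      (AddCommGrpCat.epi_iff_surjective _).mpr ((Groth.Agent.EtStalk.epi_iff a).mp ha Ω ζ)
    have h2 : Epi ((EtCoh.stalk (ζ ≫ i)).map ((EtCoh.push i).map a)) :=
      ((MorphismProperty.epimorphisms _).arrow_mk_iso_iff
        (((Functor.mapArrowFunctor _ _).mapIso (stalkPushIso ζ (liftProp_of_closedImmersion i))).app
          (Arrow.mk a))).mpr h1
    exact (AddCommGrpCat.epi_iff_surjective _).mp h2
  · have := Groth.Agent.EtStalk.isZero_stalk_push i G ξ (disjoint_of_not_mem i ξ h)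
    rw [AddCommGrpCat.isZero_iff_subsingleton] at this
    exact fun y => ⟨0, Subsingleton.elim _ _⟩

variable {X Y : Scheme.{u}} (f : X ⟶ Y) [IsIntegralHom f] [UniversallyInjective f]

instance isIntegralHom_toImage : IsIntegralHom f.toImage :=
  haveI : IsIntegralHom (f.toImage ≫ f.imageι) := by simpa
  .of_comp _ f.imageι

instance universallyInjective_toImage : UniversallyInjective f.toImage :=
  MorphismProperty.of_isPullback (P := @UniversallyInjective)
    (show IsPullback (𝟙 X) f.toImage f f.imageι from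
      ⟨⟨by simp⟩, ⟨PullbackCone.IsLimit.mk _ (fun s => s.fst) (fun s => by simp)
        (fun s => by
          rw [← cancel_mono f.imageι, Category.assoc, f.toImage_imageι]
          exact s.condition)
        (fun s m h1 _ => by simpa using h1)⟩⟩) ‹_›

instance surjective_toImage : Surjective f.toImage := by
  have hd : DenseRange f.toImage := f.toImage.denseRange
  refine ⟨Set.range_eq_univ.mp ?_⟩
  rw [← hd.closure_eq]
  exact (f.toImage.isClosedMap.isClosed_range).closure_eq.symm

/-- factorisation of the direct image -/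
noncomputable def pushFactorIso : EtCoh.push f.toImage ⋙ EtCoh.push f.imageι ≅ EtCoh.push f :=
  EtCoh.pushComp f.imageι f.toImage ≪≫ EtCoh.pushCongr f.toImage_imageι

theorem univInj_fullyFaithful : (EtCoh.push f).Full ∧ (EtCoh.push f).Faithful := by
  have := Groth.Agent.EtInvariance.push_isEquivalence f.toImage
  obtain ⟨_, _⟩ := push_fullyFaithful f.imageι (liftProp_of_closedImmersion _)
  exact ⟨Functor.Full.of_iso (pushFactorIso f), Functor.Faithful.of_iso (pushFactorIso f)⟩

theorem univInj_preservesFiniteColimits : PreservesFiniteColimits (EtCoh.push f) := by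
  have := Groth.Agent.EtInvariance.push_isEquivalence f.toImage
  have : PreservesFiniteLimits (EtCoh.push f.imageι) :=
    haveI : (EtCoh.push f.imageι).IsRightAdjoint := (EtCoh.pullPushAdj f.imageι).isRightAdjoint
    inferInstance
  have := push_epi f.imageι
  have := (EtCoh.push f.imageι).preservesHomology_of_preservesEpis_and_kernels
  have : PreservesFiniteColimits (EtCoh.push f.imageι) :=
    Functor.preservesFiniteColimits_of_preservesHomology _
  have : PreservesFiniteColimits (EtCoh.push f.toImage ⋙ EtCoh.push f.imageι) :=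
    comp_preservesFiniteColimits _ _
  exact preservesFiniteColimits_of_natIso (pushFactorIso f)

theorem range_imageι : Set.range f.imageι = Set.range f := by
  ext y
  constructor
  · rintro ⟨z, rfl⟩
    obtain ⟨x, rfl⟩ := f.toImage.surjective z
    exact ⟨x, congr($(f.toImage_imageι.symm) x)⟩
  · rintro ⟨x, rfl⟩
    exact ⟨f.toImage x, congr($(f.toImage_imageι) x)⟩

theorem univInj_essImage (G : EtCoh.Ab Y) :
    (EtCoh.push f).essImage G ↔ EtPBC.supp G ⊆ Set.range f := by
  have := Groth.Agent.EtInvariance.push_isEquivalence f.toImage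
  have h : (EtCoh.push f).essImage G ↔ (EtCoh.push f.imageι).essImage G := by
    constructor
    · rintro ⟨A, ⟨e⟩⟩
      exact ⟨_, ⟨(pushFactorIso f).app A ≪≫ e⟩⟩
    · rintro ⟨A, ⟨e⟩⟩
      exact ⟨(EtCoh.push f.toImage).objPreimage A, ⟨((pushFactorIso f).app _).symm ≪≫
        (EtCoh.push f.imageι).mapIso ((EtCoh.push f.toImage).objObjPreimageIso A) ≪≫ e⟩⟩
  rw [h, essImage_closedImmersion, range_imageι]
  constructor
  · rintro h y ⟨Ω, _, _, ξ, hξ, hne⟩
    by_contra hy
    refine hne (h Ω ξ ?_)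
    rw [show ξ (default : Spec (CommRingCat.of Ω)) = y from
      Set.mem_singleton_iff.mp (hξ ▸ Set.mem_range_self _)]
    exact hy
  · intro h Ω _ _ ξ hξ
    by_contra hne
    refine hξ (h ⟨Ω, inferInstance, inferInstance, ξ, ?_, hne⟩)
    ext y
    refine ⟨?_, fun hy => ⟨default, hy.symm⟩⟩
    rintro ⟨z, rfl⟩
    exact congrArg _ (Subsingleton.elim (α := Spec (CommRingCat.of Ω)) _ _)

end Groth.Agent.EtPushStalk
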