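import Groth.Agent.EtPushStalk.Counit
import Groth.Agent.EtStalk.Applications
import Groth.Prelude.Def_BigSite
import Mathlib

/-!
Condition (A): the counit of inverse and direct image is an epimorphism.
-/

universe u

open CategoryTheory CategoryTheory.Limits AlgebraicGeometry Opposite

set_option backward.isDefEq.respectTransparency false

namespace Groth.Agent.EtPushStalk

/-- Extending a section by zero from a clopen piece. -/
theorem exists_extend_clopen {X : Scheme.{u}} (G : EtCoh.Ab X) {U₁ U₂ P : X.Etale} (a : U₁ ⟶ P) (b : U₂ ⟶ P)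
    [Mono a.left] [Mono b.left] (hd : ∀ x y, a.left x ≠ b.left y)
    (hc : ∀ p, p ∈ Set.range a.left ∨ p ∈ Set.range b.left) (t : EtCoh.sect G U₁) :
    ∃ s : EtCoh.sect G P, G.obj.map a.op s = t := by
  let Z : Bool → X.Etale := fun i => Bool.rec U₂ U₁ i
  let π : ∀ i, Z i ⟶ P := fun i => Bool.rec b a i
  have hmem : Sieve.ofArrows Z π ∈ X.smallEtaleTopology P := by
    rw [Scheme.ofArrows_mem_smallEtaleTopology_iff]
    refine Set.eq_univ_of_forall fun p => ?_
    rcases hc p with h | h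
    · exact Set.mem_iUnion.mpr ⟨true, h⟩
    · exact Set.mem_iUnion.mpr ⟨false, h⟩
  have hs : Presieve.IsSheafFor (G.obj ⋙ forget AddCommGrpCat.{u + 1}) (Presieve.ofArrows Z π) := by
    rw [Presieve.isSheafFor_iff_generate]
    exact (isSheaf_iff_isSheaf_of_type _ _).mp
      ((sheafCompose X.smallEtaleTopology (forget AddCommGrpCat.{u + 1})).obj G).property _ hmem
  rw [Presieve.isSheafFor_arrows_iff] at hs
  let z : ∀ i, (G.obj ⋙ forget AddCommGrpCat.{u + 1}).obj (op (Z i)) :=
    fun i => match i with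
      | true => t
      | false => (0 : EtCoh.sect G U₂)
  obtain ⟨s, hs, -⟩ := hs z (fun i k T p q hpq => by
    have hl : p.left ≫ (π i).left = q.left ≫ (π k).left := congrArg (fun m => m.left) hpq
    have hsame : ∀ (i : Bool) (p q : T ⟶ Z i), p.left ≫ (π i).left = q.left ≫ (π i).left → p = q := by
      intro i p q hl
      refine MorphismProperty.Over.Hom.ext ?_
      cases i
      · exact (cancel_mono b.left).mp hl
      · exact (cancel_mono a.left).mp hl
    have hemp : ∀ (x : T.left), i ≠ k → False := fun x hik => by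
      cases i <;> cases k
      · exact hik rfl
      · exact hd _ _ (congr($hl x)).symm
      · exact hd _ _ (congr($hl x))
      · exact hik rfl
    by_cases hik : i = k
    · subst hik; rw [hsame i p q hl]
    · have : IsEmpty T.left := ⟨fun x => hemp x hik⟩
      have := Groth.Agent.EtStalk.subsingleton_of_isEmpty G T this
      exact Subsingleton.elim (α := G.obj.obj (op T)) _ _)
  exact ⟨s, hs true⟩

theorem surjective_stalkPushHom_propA {X Y : Scheme.{u}} (f : X ⟶ Y) (hA : BigSite.PropA f)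
    {Ω : Type u} [Field Ω] [IsSepClosed Ω] (ζ : Spec (CommRingCat.of Ω) ⟶ X) (G : EtCoh.Ab X) :
    Function.Surjective (stalkPushHom f ζ G) := by
  intro z
  obtain ⟨W, w₀, t, rfl⟩ := (Scheme.pointSmallEtale ζ).toPresheafFiber_jointly_surjective (P := G.obj) z
  let w : Over.mk ζ ⟶ (Scheme.Etale.forget X).obj W := w₀
  have := W.prop
  let q : W.left ⟶ X := W.hom
  obtain ⟨V, v, hv, O, hO, h, hh, ⟨p, hp⟩⟩ := hA W.left q (w.left (default : Spec (CommRingCat.of Ω)))
  let Vobj : Y.Etale := Scheme.Etale.mk v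
  let e : pullback f v ≅ pullback v f := pullbackSymmetry _ _
  let O₁ : (pullback v f).Opens := e.inv ⁻¹ᵁ O
  let O₂ : (pullback v f).Opens := ⟨e.inv ⁻¹' (O : Set ↥(pullback f v))ᶜ, hO.isOpen_compl.preimage e.inv.continuous⟩
  let P : X.Etale := (EtCoh.bc f).obj Vobj
  have : Etale (pullback.snd v f) := inferInstance
  let U₁ : X.Etale := Scheme.Etale.mk (O₁.ι ≫ pullback.snd v f)
  let U₂ : X.Etale := Scheme.Etale.mk (O₂.ι ≫ pullback.snd v f)
  let a : U₁ ⟶ P := MorphismProperty.Over.homMk O₁.ι rfl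
  let b : U₂ ⟶ P := MorphismProperty.Over.homMk O₂.ι rfl
  let r : O₁.toScheme ⟶ O.toScheme := e.inv ∣_ O
  have hr : r ≫ O.ι = O₁.ι ≫ e.inv := morphismRestrict_ι _ _
  let g : U₁ ⟶ W := MorphismProperty.Over.homMk (r ≫ h) (by
    change (r ≫ h) ≫ q = O₁.ι ≫ pullback.snd v f
    rw [Category.assoc, hh, ← Category.assoc, hr, Category.assoc, pullbackSymmetry_inv_comp_fst])
  have : Mono a.left := inferInstanceAs (Mono O₁.ι)
  have : Mono b.left := inferInstanceAs (Mono O₂.ι)
  obtain ⟨s, hs⟩ := exists_extend_clopen G a b (fun x y hxy => by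
      let x' : O₁.toScheme := x
      let y' : O₂.toScheme := y
      exact y'.2 (show e.inv y'.1 ∈ O from (show x'.1 = y'.1 from hxy) ▸ x'.2))
    (fun c => by
      by_cases hc : e.inv c ∈ O
      · exact Or.inl ⟨(⟨c, hc⟩ : O₁), rfl⟩
      · exact Or.inr ⟨(⟨c, hc⟩ : O₂), rfl⟩)
    (G.obj.map g.op t)
  obtain ⟨p', hp'⟩ := r.surjective p
  have := Groth.Agent.EtSect.etale_left g
  obtain ⟨l, hl⟩ := Scheme.pointSmallEtaleFiberObjToPreimage_surjective (S := W.left)
    w.left (s₀ := w.left (default : Spec (CommRingCat.of Ω))) rfl (Scheme.Etale.mk g.left)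
    ⟨p', by change h (r p') = _; rw [hp']; exact hp⟩
  let l' : Over.mk w.left ⟶ Over.mk g.left := l
  let l₁ : Over.mk ζ ⟶ (Scheme.Etale.forget X).obj U₁ := Over.homMk l'.left (by
    change l'.left ≫ U₁.hom = ζ
    rw [← MorphismProperty.Over.w g, ← Category.assoc]
    exact (congrArg (· ≫ W.hom) (Over.w l')).trans (Over.w w))
  have hl₁ : l'.left ≫ O₁.ι ≫ pullback.snd v f = ζ := Over.w l₁
  let vp : Over.mk (ζ ≫ f) ⟶ (Scheme.Etale.forget Y).obj Vobj :=
    Over.homMk (l'.left ≫ O₁.ι ≫ pullback.fst v f) (by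
      change (l'.left ≫ O₁.ι ≫ pullback.fst v f) ≫ v = ζ ≫ f
      simp only [Category.assoc, pullback.condition]
      exact ((congrArg (fun m => l'.left ≫ m) (Category.assoc _ _ _)).symm.trans (Category.assoc _ _ _).symm).trans (congrArg (· ≫ f) hl₁))
  have hup : l₁ ≫ (Scheme.Etale.forget X).map a = up f ζ vp := by
    refine Over.OverMorphism.ext ?_
    change l'.left ≫ O₁.ι = pullback.lift vp.left ζ _
    apply pullback.hom_ext
    · rw [pullback.lift_fst, Category.assoc]; rfl
    · rw [pullback.lift_snd, Category.assoc]; exact hl₁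
  refine ⟨(Scheme.pointSmallEtale (ζ ≫ f)).toPresheafFiber Vobj vp ((EtCoh.push f).obj G).obj s, ?_⟩
  rw [stalkPushHom_germ]
  refine Eq.trans ?_ ((GrothendieckTopology.Point.toPresheafFiber_w_apply (Scheme.pointSmallEtale ζ) g l₁ G.obj t).trans
    (by congr 3; exact Over.OverMorphism.ext (Over.w l')))
  rw [← hs]
  refine Eq.trans ?_ (GrothendieckTopology.Point.toPresheafFiber_w_apply (Scheme.pointSmallEtale ζ) a l₁ G.obj s).symm
  congr 3
  exact hup.symm

theorem epi_counit_propA {X Y : Scheme.{u}} (f : X ⟶ Y) (hA : BigSite.PropA f) (G : EtCoh.Ab X) :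
    Epi ((EtCoh.pullPushAdj f).counit.app G) := by
  refine (Groth.Agent.EtStalk.epi_iff _).mpr fun Ω _ _ ζ z => ?_
  obtain ⟨y, hy⟩ := surjective_stalkPushHom_propA f hA ζ G z
  rw [← stalkPullIso_hom_counit, ConcreteCategory.comp_apply] at hy
  exact ⟨_, hy⟩

end Groth.Agent.EtPushStalk
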